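import Groth.Agent.Algz14.FlatBC
import Groth.Agent.Algz14.Sect
import Groth.Agent.FEt83.DepthSections
import Groth.Agent.Crv77.DegreeInt
import Groth.Agent.CAlg1.NagataUnram
import Groth.Prelude.Def_Formal2
import Groth.Prelude.Def_PicLoc

/-!
Descent of trivial invertible modules along faithfully flat local base change of a punctured spectrum.
-/

set_option autoImplicit false
set_option backward.isDefEq.respectTransparency.types false
set_option linter.style.haveILetI false

universe u

open CategoryTheory CategoryTheory.Limits AlgebraicGeometry Opposite TensorProduct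

noncomputable section

namespace Groth.Agent.PicCompl27

open Algz14

theorem nonempty_linearEquiv_of_tensor {A B : Type u} [CommRing A] [CommRing B] [Algebra A B] [IsLocalRing B]
    [Module.FaithfullyFlat A B] {S : Type u} [AddCommGroup S] [Module A S] (ψ : B ⊗[A] S ≃ₗ[B] B) :
    Nonempty (A ≃ₗ[A] S) := by
  obtain ⟨s, hs⟩ : ∃ s : S, IsUnit (ψ (1 ⊗ₜ[A] s)) := by
    by_contra hne
    push Not at hne
    have key : ∀ z : B ⊗[A] S, ψ z ∈ IsLocalRing.maximalIdeal B := fun z => by
      induction z using TensorProduct.induction_on with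
      | zero => simp
      | add a b ha hb => rw [map_add]; exact add_mem ha hb
      | tmul b x =>
        have e : (b ⊗ₜ[A] x : B ⊗[A] S) = b • (1 ⊗ₜ[A] x) := by rw [TensorProduct.smul_tmul', smul_eq_mul, mul_one]
        rw [e, map_smul]
        exact Ideal.mul_mem_left _ b (hne x)
    have h1 := key (ψ.symm 1)
    rw [LinearEquiv.apply_symm_apply] at h1
    exact (IsLocalRing.maximalIdeal.isMaximal B).ne_top ((Ideal.eq_top_iff_one _).2 h1)
  let g : A →ₗ[A] S := LinearMap.toSpanSingleton A S s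
  refine ⟨LinearEquiv.ofBijective g ⟨?_, ?_⟩⟩
  · refine (injective_iff_map_eq_zero g).2 fun a ha => ?_
    have ha' : a • s = 0 := ha
    have h0 : algebraMap A B a * ψ (1 ⊗ₜ[A] s) = 0 := by
      rw [← smul_eq_mul, ← map_smul, algebraMap_smul, ← TensorProduct.tmul_smul, ha', TensorProduct.tmul_zero, map_zero]
    exact FaithfulSMul.algebraMap_injective A B ((hs.mul_left_eq_zero.1 h0).trans (map_zero _).symm)
  · rw [← LinearMap.range_eq_top, ← Submodule.Quotient.subsingleton_iff]
    refine (Module.FaithfullyFlat.subsingleton_tensorProduct_iff_right A B).1 ⟨fun z w => ?_⟩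
    suffices h : ∀ z : B ⊗[A] (S ⧸ LinearMap.range g), z = 0 by rw [h z, h w]
    intro z
    obtain ⟨z', rfl⟩ := LinearMap.lTensor_surjective B (Submodule.mkQ_surjective (LinearMap.range g)) z
    obtain ⟨b, hb⟩ : ∃ b : B, z' = b ⊗ₜ[A] s := by
      refine ⟨ψ z' * ↑hs.unit⁻¹, ψ.injective ?_⟩
      have e : ((ψ z' * ↑hs.unit⁻¹) ⊗ₜ[A] s : B ⊗[A] S) = (ψ z' * ↑hs.unit⁻¹) • (1 ⊗ₜ[A] s) := by
        rw [TensorProduct.smul_tmul', smul_eq_mul, mul_one]
      rw [e, map_smul, smul_eq_mul, mul_assoc, IsUnit.val_inv_mul hs, mul_one]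
    rw [hb, LinearMap.lTensor_tmul, Submodule.mkQ_apply,
      (Submodule.Quotient.mk_eq_zero _).2 (show s ∈ LinearMap.range g from ⟨1, one_smul A s⟩), TensorProduct.tmul_zero]

variable (A : Type u) [CommRing A] [IsNoetherianRing A] [IsLocalRing A]

theorem bijective_smul_one (h : (2 : ℕ∞) ≤ LocCoh.depth A A) :
    ∃ e : secU (FEt.puncturedSpec A) (Coh.structureModule _) ≅ ModuleCat.of A A, True := by
  let U := FEt.puncturedSpec A
  have hbij : Function.Bijective U.ι.appTop := FEt83.appTop_bijective_of_depth U.ι fun x hx => by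
    have hx' : x = IsLocalRing.closedPoint A := by
      by_contra hne
      exact hx ⟨⟨x, hne⟩, rfl⟩
    subst hx'
    rw [FEt83.depth_stalk_closedPoint]
    exact h
  let one : secU U (Coh.structureModule (U : Scheme.{u})) := ofTop U (OmegaSh.strSect (U : Scheme.{u}) ⊤ 1)
  let g : A →ₗ[A] secU U (Coh.structureModule (U : Scheme.{u})) := LinearMap.toSpanSingleton A _ one
  have hg : ∀ a : A, topSec (g a) =
      OmegaSh.strSect (U : Scheme.{u}) ⊤ (U.ι.appTop ((Scheme.ΓSpecIso (CommRingCat.of A)).inv.hom a)) := fun a => by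
    refine (topSec_smul U _ a one).trans ?_
    have e : U.ι.appLE ⊤ ⊤ le_top = U.ι.appTop := (Scheme.Hom.app_eq_appLE U.ι (U := ⊤)).symm
    rw [e]
    exact (OmegaSh.strSect_mul _ _ _).symm.trans (congrArg _ (mul_one _))
  have gbij : Function.Bijective g := by
    have h2 : Function.Bijective fun a : A =>
        OmegaSh.strSect (U : Scheme.{u}) ⊤ (U.ι.appTop ((Scheme.ΓSpecIso (CommRingCat.of A)).inv.hom a)) :=
      ((Function.bijective_iff_has_inverse.2 ⟨OmegaSh.fnSect (U : Scheme.{u}) ⊤, fun _ => rfl, fun _ => rfl⟩).comp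
        hbij).comp (ConcreteCategory.bijective_of_isIso (Scheme.ΓSpecIso (CommRingCat.of A)).inv)
    rw [show (fun a : A => OmegaSh.strSect (U : Scheme.{u}) ⊤
      (U.ι.appTop ((Scheme.ΓSpecIso (CommRingCat.of A)).inv.hom a))) = fun a => topSec (g a) from
        funext fun a => (hg a).symm] at h2
    exact h2
  exact ⟨(LinearEquiv.ofBijective g gbij).toModuleIso.symm, trivial⟩

theorem nonempty_iso_of_pullback {B : Type u} [CommRing B] [IsLocalRing B] (φ : A →+* B)
    (hφ : φ.FaithfullyFlat) (h : (2 : ℕ∞) ≤ LocCoh.depth A A) :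
    Formal2.PicPullbackInjective (specMap φ ∣_ FEt.puncturedSpec A) := by
  intro L hL ⟨e⟩
  let U := FEt.puncturedSpec A
  let U' := specMap φ ⁻¹ᵁ U
  let O := Coh.structureModule (U : Scheme.{u})
  haveI : L.IsQuasicoherent := (Crv77.isCoh_of_isInvertible hL).1
  haveI : O.IsQuasicoherent := (Crv77.isCoh_of_isInvertible (PicLoc.isInvertible_structureModule _)).1
  let bc : ∀ G : (U : Scheme.{u}).Modules, G.IsQuasicoherent →
      ((ModuleCat.extendScalars φ).obj (secU U G) ≅
        secU U' ((Scheme.Modules.pullback (specMap φ ∣_ U)).obj G)) := fun G hG =>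
    @asIso _ _ _ _ ((cmp φ U).app G)
      ((ConcreteCategory.isIso_iff_bijective _).2 (@cmp_app_bijective _ _ _ _ φ U _ hφ.flat G hG))
  obtain ⟨eO, -⟩ := bijective_smul_one A h
  letI := φ.toAlgebra
  haveI : Module.FaithfullyFlat A B := hφ
  let e0 : secU U' ((Scheme.Modules.pullback (specMap φ ∣_ U)).obj L) ≅
      secU U' ((Scheme.Modules.pullback (specMap φ ∣_ U)).obj O) :=
    (Γm B).mapIso ((Scheme.Modules.pushforward U'.ι).mapIso (e ≪≫ (PicLoc.pullbackStructureIso _).symm))
  let e1 : (ModuleCat.extendScalars φ).obj (secU U L) ≅ (ModuleCat.extendScalars φ).obj (ModuleCat.of A A) :=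
    bc L inferInstance ≪≫ e0 ≪≫ (bc O inferInstance).symm ≪≫ (ModuleCat.extendScalars φ).mapIso eO
  let ψ : B ⊗[A] (secU U L : Type u) ≃ₗ[B] B :=
    e1.toLinearEquiv.trans (TensorProduct.AlgebraTensorModule.rid A B B)
  obtain ⟨eS⟩ := nonempty_linearEquiv_of_tensor ψ
  let c : ∀ G : (U : Scheme.{u}).Modules, G.IsQuasicoherent →
      ((Scheme.Modules.restrictFunctor U.ι).obj ((Tm A).obj (secU U G)) ≅ G) := fun G hG =>
    haveI : IsIso ((Scheme.Modules.restrictAdjunction U.ι).counit.app G) := inferInstance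
    (Scheme.Modules.restrictFunctor U.ι).mapIso (@asIso _ _ _ _
      ((Scheme.Modules.fromTildeΓNatTrans (R := CommRingCat.of A)).app ((Scheme.Modules.pushforward U.ι).obj G))
      (isIso_fromTilde _ (@isQuasicoherent_push _ _ _ U G hG))) ≪≫ asIso ((Scheme.Modules.restrictAdjunction U.ι).counit.app G)
  exact ⟨(c L inferInstance).symm ≪≫
    (Scheme.Modules.restrictFunctor U.ι).mapIso ((Tm A).mapIso (eS.toModuleIso.symm ≪≫ eO.symm)) ≪≫
      c O inferInstance⟩

end Groth.Agent.PicCompl27
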